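import Cfsg.Agent.Lib.TC.D.Fi22H.Tab

namespace Cfsg.Agent.Lib.TC.D.Fi22H.Lev

open Cfsg.Agent.Lib.TC.Core Cfsg.Agent.Lib.TC.Enc Cfsg.Agent.Lib.TC.Pres Cfsg.Agent.Lib.TC.Perm Cfsg.Agent.Lib.TC.Main Cfsg.Agent.Lib.TC.Chain Cfsg.Agent.Lib.TC.SubPres Cfsg.Agent.Lib.TC.Iso

set_option maxRecDepth 100000

open Cfsg.Agent.Lib.TC.D.Fi22H.Tab Cfsg.Agent.Lib.TC.Chain.PermLev

/-- The levels of a chain of stabilizers. -/
def levels : List Lev :=
  [⟨100,
   [[0],
    [1],
    [2],
    [3],
    [4],
    [6],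
    [7]],
   [(121,100,2),
    (146,121,1),
    (144,121,3),
    (138,121,5),
    (174,146,0),
    (173,146,3),
    (167,146,5),
    (169,144,4),
    (159,144,5),
    (163,138,6),
    (202,174,3),
    (198,174,5),
    (203,173,2),
    (201,173,4),
    (190,173,5),
    (200,167,2),
    (195,167,6),
    (181,169,5),
    (178,159,2),
    (185,159,6),
    (218,202,5),
    (231,198,2),
    (225,198,6),
    (233,203,5),
    (211,201,5),
    (220,190,2),
    (216,190,6),
    (232,200,3),
    (227,200,6),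
    (209,178,1),
    (249,218,2),
    (244,218,6),
    (262,231,1),
    (263,231,3),
    (256,231,6),
    (252,233,2),
    (237,233,6),
    (242,211,2),
    (239,220,1),
    (250,220,3),
    (246,220,6),
    (264,232,4),
    (258,232,6),
    (260,227,5),
    (277,249,1),
    (278,249,3),
    (274,249,6),
    (292,262,3),
    (282,262,6),
    (293,263,4),
    (285,263,6),
    (287,256,5),
    (271,252,1),
    (280,252,3),
    (267,252,6),
    (272,242,3),
    (269,239,3),
    (279,250,4),
    (275,250,6),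
    (288,264,6),
    (289,258,5),
    (295,277,0),
    (305,277,3),
    (298,277,6),
    (307,278,4),
    (303,278,6),
    (321,292,2),
    (322,292,4),
    (310,292,6),
    (312,282,5),
    (315,293,6),
    (316,285,5),
    (300,271,3),
    (308,280,4),
    (296,280,6),
    (302,272,4),
    (299,269,4),
    (304,279,6),
    (318,288,5),
    (319,289,2),
    (324,295,3),
    (332,305,2),
    (331,305,4),
    (326,305,6),
    (330,307,6),
    (341,321,4),
    (340,321,5),
    (333,321,6),
    (334,322,6),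
    (335,310,5),
    (336,312,2),
    (337,315,5),
    (338,316,2),
    (329,300,2),
    (328,300,4),
    (325,308,6),
    (339,318,2),
    (342,324,2),
    (343,324,4),
    (347,332,4),
    (345,332,6),
    (344,331,6),
    (353,341,3),
    (351,341,5),
    (348,341,6),
    (349,334,5),
    (350,337,2),
    (346,329,4),
    (352,339,3),
    (354,342,4),
    (357,347,3),
    (355,347,6),
    (360,353,5),
    (358,353,6),
    (359,350,3),
    (356,346,3),
    (361,354,3),
    (362,357,6),
    (363,360,2)]⟩,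
  ⟨336,
   [[0],
    [1],
    [3],
    [4],
    [6],
    [7],
    [2,1,3,2,0,4,3,1,2],
    [2,3,4,6,2,7,6,3,2]],
   [(363,336,6)]⟩,
  ⟨220,
   [[0],
    [1],
    [3],
    [4],
    [6],
    [7],
    [2,3,4,6,2,7,6,3,1,3,4,0,2,3,1,2]],
   [(249,220,0),
    (239,220,1),
    (250,220,2),
    (242,220,3),
    (252,220,4),
    (246,220,5),
    (277,249,1),
    (278,249,2),
    (274,249,5),
    (267,239,0),
    (269,239,2),
    (271,239,4),
    (296,239,6),
    (279,250,3),
    (280,250,4),
    (275,250,5),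
    (272,242,2),
    (295,277,0),
    (305,277,2),
    (298,277,5),
    (307,278,3),
    (303,278,5),
    (299,269,3),
    (300,269,4),
    (324,271,6),
    (325,296,3),
    (326,296,4),
    (302,279,2),
    (308,279,4),
    (304,279,5),
    (331,305,3),
    (330,307,5),
    (328,299,4),
    (343,324,3),
    (344,325,4)]⟩,
  ⟨267,
   [[0,4,6],
    [1,4,7],
    [2,3,4,6,2,7,6,3,1,3,4,0,2,3,1,2]],
   [(277,267,0)]⟩,
  ⟨1,
   [[1,4,7,6,4,0],
    [2,3,4,6,2,7,6,3,1,3,4,0,2,3,1,2],
    [0,4,6,2,3,4,6,2,7,6,3,1,3,4,0,2,3,1,2,6,4,0]],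
   [(56,1,2),
    (89,56,0),
    (176,56,1),
    (65,56,2),
    (57,89,0),
    (234,89,1),
    (68,89,2),
    (82,176,1),
    (183,176,2),
    (102,65,0),
    (54,65,1),
    (186,57,1),
    (103,234,1),
    (189,234,2),
    (72,68,1),
    (81,68,2),
    (236,183,0),
    (273,183,2),
    (87,102,1),
    (313,102,2),
    (188,54,2),
    (69,186,1),
    (241,189,2),
    (235,72,2),
    (270,236,2),
    (247,87,2)]⟩,
  ⟨2,
   [[1,4,7,6,4,0],
    [2,3,4,6,2,7,6,3,1,3,4,0,2,3,1,2]],
   [(31,2,1),
    (59,31,0),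
    (40,31,1),
    (58,59,0),
    (66,59,1),
    (70,40,0),
    (284,66,1),
    (63,70,1)]⟩,
  ⟨4,
   [[1,4,7,6,4,0]],
   [(10,4,0),
    (12,10,0)]⟩]

theorem hlev : levsOK pt [0] levels = true := by decide +kernel

end Cfsg.Agent.Lib.TC.D.Fi22H.Lev
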