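import Cfsg.Agent.Lib.TC.D.Fi22H.Tab
import Cfsg.Agent.Lib.TC.D.Fi22H.XT0

namespace Cfsg.Agent.Lib.TC.D.Fi22H.X_Tab

open Cfsg.Agent.Lib.TC.Core Cfsg.Agent.Lib.TC.Enc Cfsg.Agent.Lib.TC.Pres Cfsg.Agent.Lib.TC.Perm Cfsg.Agent.Lib.TC.Main Cfsg.Agent.Lib.TC.Chain Cfsg.Agent.Lib.TC.SubPres Cfsg.Agent.Lib.TC.Iso

set_option maxRecDepth 100000

/-- The chunks of the certificate. -/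
noncomputable def ctree : Tr Nat := Cfsg.Agent.Lib.TC.D.Fi22H.XT0.tree

/-- The relator rotations. -/
noncomputable def rotT : Tr (List Nat) := (Tr.node (Tr.node (Tr.node (Tr.node (Tr.node (Tr.node (Tr.node (Tr.leaf [])
 (Tr.leaf [3,5,3,5]))
 (Tr.node (Tr.leaf [0,4,0,4])
 (Tr.leaf [6,7,2,1,0,2,3,4,2,6,7,2,1,0,2,3,4,2,6,7,2,1,0,2,3,4,2,6,7,2,1,0,2,3,4,2,6,7,2,1,0,2,3,4,2,6,7,2,1,0,2,3,4,2,6,7,2,1,0,2,3,4,2,6,7,2,1,0,2,3,4,2,6,7,2,1,0,2,3,4,2,6,7,2,1,0,2,3,4,2])))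
 (Tr.node (Tr.node (Tr.leaf [4,1,0,5,2,7,3,6])
 (Tr.leaf [6,7,6,7,6,7]))
 (Tr.node (Tr.leaf [1,6,1,6])
 (Tr.leaf [6,0,1,2,3,4,5,6,0,1,2,3,4,5,6,0,1,2,3,4,5,6,0,1,2,3,4,5,6,0,1,2,3,4,5,6,0,1,2,3,4,5,6,0,1,2,3,4,5,6,0,1,2,3,4,5,6,0,1,2,3,4,5]))))
 (Tr.node (Tr.node (Tr.node (Tr.leaf [7,7])
 (Tr.leaf [4,6,4,6]))
 (Tr.node (Tr.leaf [1,2,1,2,1,2])
 (Tr.leaf [2,3,4,5,6,0,1,2,3,4,5,6,0,1,2,3,4,5,6,0,1,2,3,4,5,6,0,1,2,3,4,5,6,0,1,2,3,4,5,6,0,1,2,3,4,5,6,0,1,2,3,4,5,6,0,1,2,3,4,5,6,0,1])))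
 (Tr.node (Tr.node (Tr.leaf [2,7,3,6,4,1,0,5])
 (Tr.leaf [2,3,4,2,6,7,2,1,0,2,3,4,2,6,7,2,1,0,2,3,4,2,6,7,2,1,0,2,3,4,2,6,7,2,1,0,2,3,4,2,6,7,2,1,0,2,3,4,2,6,7,2,1,0,2,3,4,2,6,7,2,1,0,2,3,4,2,6,7,2,1,0,2,3,4,2,6,7,2,1,0,2,3,4,2,6,7,2,1,0]))
 (Tr.node (Tr.leaf [2,5,2,5])
 (Tr.leaf [6,0,1,2,3,4,5,6,0,1,2,3,4,5,6,0,1,2,3,4,5,6,0,1,2,3,4,5,6,0,1,2,3,4,5,6,0,1,2,3,4,5,6,0,1,2,3,4,5,6,0,1,2,3,4,5,6,0,1,2,3,4,5])))))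
 (Tr.node (Tr.node (Tr.node (Tr.node (Tr.leaf [3,3])
 (Tr.leaf [3,7,3,7]))
 (Tr.node (Tr.leaf [0,6,0,6])
 (Tr.leaf [0,1,2,3,4,5,6,0,1,2,3,4,5,6,0,1,2,3,4,5,6,0,1,2,3,4,5,6,0,1,2,3,4,5,6,0,1,2,3,4,5,6,0,1,2,3,4,5,6,0,1,2,3,4,5,6,0,1,2,3,4,5,6])))
 (Tr.node (Tr.node (Tr.leaf [0,5,2,7,3,6,4,1])
 (Tr.leaf [1,0,2,3,4,2,6,7,2,1,0,2,3,4,2,6,7,2,1,0,2,3,4,2,6,7,2,1,0,2,3,4,2,6,7,2,1,0,2,3,4,2,6,7,2,1,0,2,3,4,2,6,7,2,1,0,2,3,4,2,6,7,2,1,0,2,3,4,2,6,7,2,1,0,2,3,4,2,6,7,2,1,0,2,3,4,2,6,7,2]))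
 (Tr.node (Tr.leaf [2,3,2,3,2,3])
 (Tr.leaf [6,0,1,2,3,4,5,6,0,1,2,3,4,5,6,0,1,2,3,4,5,6,0,1,2,3,4,5,6,0,1,2,3,4,5,6,0,1,2,3,4,5,6,0,1,2,3,4,5,6,0,1,2,3,4,5,6,0,1,2,3,4,5]))))
 (Tr.node (Tr.node (Tr.node (Tr.leaf [3,6,4,1,0,5,2,7])
 (Tr.leaf [5,6,5,6]))
 (Tr.node (Tr.leaf [1,4,1,4])
 (Tr.leaf [4,5,6,0,1,2,3,4,5,6,0,1,2,3,4,5,6,0,1,2,3,4,5,6,0,1,2,3,4,5,6,0,1,2,3,4,5,6,0,1,2,3,4,5,6,0,1,2,3,4,5,6,0,1,2,3,4,5,6,0,1,2,3])))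
 (Tr.node (Tr.node (Tr.leaf [0,2,0,2])
 (Tr.leaf [4,2,6,7,2,1,0,2,3,4,2,6,7,2,1,0,2,3,4,2,6,7,2,1,0,2,3,4,2,6,7,2,1,0,2,3,4,2,6,7,2,1,0,2,3,4,2,6,7,2,1,0,2,3,4,2,6,7,2,1,0,2,3,4,2,6,7,2,1,0,2,3,4,2,6,7,2,1,0,2,3,4,2,6,7,2,1,0,2,3]))
 (Tr.node (Tr.leaf [2,7,2,7])
 (Tr.leaf [6,0,1,2,3,4,5,6,0,1,2,3,4,5,6,0,1,2,3,4,5,6,0,1,2,3,4,5,6,0,1,2,3,4,5,6,0,1,2,3,4,5,6,0,1,2,3,4,5,6,0,1,2,3,4,5,6,0,1,2,3,4,5]))))))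
 (Tr.node (Tr.node (Tr.node (Tr.node (Tr.node (Tr.leaf [1,1])
 (Tr.leaf [3,6,3,6]))
 (Tr.node (Tr.leaf [0,5,0,5])
 (Tr.leaf [7,2,1,0,2,3,4,2,6,7,2,1,0,2,3,4,2,6,7,2,1,0,2,3,4,2,6,7,2,1,0,2,3,4,2,6,7,2,1,0,2,3,4,2,6,7,2,1,0,2,3,4,2,6,7,2,1,0,2,3,4,2,6,7,2,1,0,2,3,4,2,6,7,2,1,0,2,3,4,2,6,7,2,1,0,2,3,4,2,6])))
 (Tr.node (Tr.node (Tr.leaf [1,0,5,2,7,3,6,4])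
 (Tr.leaf [2,1,0,2,3,4,2,6,7,2,1,0,2,3,4,2,6,7,2,1,0,2,3,4,2,6,7,2,1,0,2,3,4,2,6,7,2,1,0,2,3,4,2,6,7,2,1,0,2,3,4,2,6,7,2,1,0,2,3,4,2,6,7,2,1,0,2,3,4,2,6,7,2,1,0,2,3,4,2,6,7,2,1,0,2,3,4,2,6,7]))
 (Tr.node (Tr.leaf [1,7,1,7])
 (Tr.leaf [6,0,1,2,3,4,5,6,0,1,2,3,4,5,6,0,1,2,3,4,5,6,0,1,2,3,4,5,6,0,1,2,3,4,5,6,0,1,2,3,4,5,6,0,1,2,3,4,5,6,0,1,2,3,4,5,6,0,1,2,3,4,5]))))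
 (Tr.node (Tr.node (Tr.node (Tr.leaf [7,3,6,4,1,0,5,2])
 (Tr.leaf [4,7,4,7]))
 (Tr.node (Tr.leaf [1,3,1,3])
 (Tr.leaf [3,4,5,6,0,1,2,3,4,5,6,0,1,2,3,4,5,6,0,1,2,3,4,5,6,0,1,2,3,4,5,6,0,1,2,3,4,5,6,0,1,2,3,4,5,6,0,1,2,3,4,5,6,0,1,2,3,4,5,6,0,1,2])))
 (Tr.node (Tr.node (Tr.leaf [0,1,0,1,0,1])
 (Tr.leaf [3,4,2,6,7,2,1,0,2,3,4,2,6,7,2,1,0,2,3,4,2,6,7,2,1,0,2,3,4,2,6,7,2,1,0,2,3,4,2,6,7,2,1,0,2,3,4,2,6,7,2,1,0,2,3,4,2,6,7,2,1,0,2,3,4,2,6,7,2,1,0,2,3,4,2,6,7,2,1,0,2,3,4,2,6,7,2,1,0,2]))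
 (Tr.node (Tr.leaf [2,6,2,6,2,6])
 (Tr.leaf [6,0,1,2,3,4,5,6,0,1,2,3,4,5,6,0,1,2,3,4,5,6,0,1,2,3,4,5,6,0,1,2,3,4,5,6,0,1,2,3,4,5,6,0,1,2,3,4,5,6,0,1,2,3,4,5,6,0,1,2,3,4,5])))))
 (Tr.node (Tr.node (Tr.node (Tr.node (Tr.leaf [5,5])
 (Tr.leaf [4,5,4,5,4,5]))
 (Tr.node (Tr.leaf [0,7,0,7])
 (Tr.leaf [1,2,3,4,5,6,0,1,2,3,4,5,6,0,1,2,3,4,5,6,0,1,2,3,4,5,6,0,1,2,3,4,5,6,0,1,2,3,4,5,6,0,1,2,3,4,5,6,0,1,2,3,4,5,6,0,1,2,3,4,5,6,0])))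
 (Tr.node (Tr.node (Tr.leaf [5,2,7,3,6,4,1,0])
 (Tr.leaf [0,2,3,4,2,6,7,2,1,0,2,3,4,2,6,7,2,1,0,2,3,4,2,6,7,2,1,0,2,3,4,2,6,7,2,1,0,2,3,4,2,6,7,2,1,0,2,3,4,2,6,7,2,1,0,2,3,4,2,6,7,2,1,0,2,3,4,2,6,7,2,1,0,2,3,4,2,6,7,2,1,0,2,3,4,2,6,7,2,1]))
 (Tr.node (Tr.leaf [2,4,2,4])
 (Tr.leaf [6,0,1,2,3,4,5,6,0,1,2,3,4,5,6,0,1,2,3,4,5,6,0,1,2,3,4,5,6,0,1,2,3,4,5,6,0,1,2,3,4,5,6,0,1,2,3,4,5,6,0,1,2,3,4,5,6,0,1,2,3,4,5]))))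
 (Tr.node (Tr.node (Tr.node (Tr.leaf [6,4,1,0,5,2,7,3])
 (Tr.leaf [5,7,5,7]))
 (Tr.node (Tr.leaf [1,5,1,5])
 (Tr.leaf [5,6,0,1,2,3,4,5,6,0,1,2,3,4,5,6,0,1,2,3,4,5,6,0,1,2,3,4,5,6,0,1,2,3,4,5,6,0,1,2,3,4,5,6,0,1,2,3,4,5,6,0,1,2,3,4,5,6,0,1,2,3,4])))
 (Tr.node (Tr.node (Tr.leaf [0,3,0,3])
 (Tr.leaf [2,6,7,2,1,0,2,3,4,2,6,7,2,1,0,2,3,4,2,6,7,2,1,0,2,3,4,2,6,7,2,1,0,2,3,4,2,6,7,2,1,0,2,3,4,2,6,7,2,1,0,2,3,4,2,6,7,2,1,0,2,3,4,2,6,7,2,1,0,2,3,4,2,6,7,2,1,0,2,3,4,2,6,7,2,1,0,2,3,4]))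
 (Tr.node (Tr.leaf [3,4,3,4,3,4])
 (Tr.leaf [6,0,1,2,3,4,5,6,0,1,2,3,4,5,6,0,1,2,3,4,5,6,0,1,2,3,4,5,6,0,1,2,3,4,5,6,0,1,2,3,4,5,6,0,1,2,3,4,5,6,0,1,2,3,4,5,6,0,1,2,3,4,5])))))))
 (Tr.node (Tr.node (Tr.node (Tr.node (Tr.node (Tr.node (Tr.leaf [0,0])
 (Tr.leaf [6,3,6,3]))
 (Tr.node (Tr.leaf [5,0,5,0])
 (Tr.leaf [2,7,6,2,4,3,2,0,1,2,7,6,2,4,3,2,0,1,2,7,6,2,4,3,2,0,1,2,7,6,2,4,3,2,0,1,2,7,6,2,4,3,2,0,1,2,7,6,2,4,3,2,0,1,2,7,6,2,4,3,2,0,1,2,7,6,2,4,3,2,0,1,2,7,6,2,4,3,2,0,1,2,7,6,2,4,3,2,0,1])))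
 (Tr.node (Tr.node (Tr.leaf [4,6,3,7,2,5,0,1])
 (Tr.leaf [7,6,2,4,3,2,0,1,2,7,6,2,4,3,2,0,1,2,7,6,2,4,3,2,0,1,2,7,6,2,4,3,2,0,1,2,7,6,2,4,3,2,0,1,2,7,6,2,4,3,2,0,1,2,7,6,2,4,3,2,0,1,2,7,6,2,4,3,2,0,1,2,7,6,2,4,3,2,0,1,2,7,6,2,4,3,2,0,1,2]))
 (Tr.node (Tr.leaf [7,1,7,1])
 (Tr.leaf [6,0,1,2,3,4,5,6,0,1,2,3,4,5,6,0,1,2,3,4,5,6,0,1,2,3,4,5,6,0,1,2,3,4,5,6,0,1,2,3,4,5,6,0,1,2,3,4,5,6,0,1,2,3,4,5,6,0,1,2,3,4,5]))))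
 (Tr.node (Tr.node (Tr.node (Tr.leaf [2,5,0,1,4,6,3,7])
 (Tr.leaf [7,4,7,4]))
 (Tr.node (Tr.leaf [3,1,3,1])
 (Tr.leaf [3,2,1,0,6,5,4,3,2,1,0,6,5,4,3,2,1,0,6,5,4,3,2,1,0,6,5,4,3,2,1,0,6,5,4,3,2,1,0,6,5,4,3,2,1,0,6,5,4,3,2,1,0,6,5,4,3,2,1,0,6,5,4])))
 (Tr.node (Tr.node (Tr.leaf [1,0,1,0,1,0])
 (Tr.leaf [3,2,0,1,2,7,6,2,4,3,2,0,1,2,7,6,2,4,3,2,0,1,2,7,6,2,4,3,2,0,1,2,7,6,2,4,3,2,0,1,2,7,6,2,4,3,2,0,1,2,7,6,2,4,3,2,0,1,2,7,6,2,4,3,2,0,1,2,7,6,2,4,3,2,0,1,2,7,6,2,4,3,2,0,1,2,7,6,2,4]))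
 (Tr.node (Tr.leaf [6,2,6,2,6,2])
 (Tr.leaf [6,0,1,2,3,4,5,6,0,1,2,3,4,5,6,0,1,2,3,4,5,6,0,1,2,3,4,5,6,0,1,2,3,4,5,6,0,1,2,3,4,5,6,0,1,2,3,4,5,6,0,1,2,3,4,5,6,0,1,2,3,4,5])))))
 (Tr.node (Tr.node (Tr.node (Tr.node (Tr.leaf [4,4])
 (Tr.leaf [5,4,5,4,5,4]))
 (Tr.node (Tr.leaf [7,0,7,0])
 (Tr.leaf [5,4,3,2,1,0,6,5,4,3,2,1,0,6,5,4,3,2,1,0,6,5,4,3,2,1,0,6,5,4,3,2,1,0,6,5,4,3,2,1,0,6,5,4,3,2,1,0,6,5,4,3,2,1,0,6,5,4,3,2,1,0,6])))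
 (Tr.node (Tr.node (Tr.leaf [3,7,2,5,0,1,4,6])
 (Tr.leaf [2,4,3,2,0,1,2,7,6,2,4,3,2,0,1,2,7,6,2,4,3,2,0,1,2,7,6,2,4,3,2,0,1,2,7,6,2,4,3,2,0,1,2,7,6,2,4,3,2,0,1,2,7,6,2,4,3,2,0,1,2,7,6,2,4,3,2,0,1,2,7,6,2,4,3,2,0,1,2,7,6,2,4,3,2,0,1,2,7,6]))
 (Tr.node (Tr.leaf [4,2,4,2])
 (Tr.leaf [6,0,1,2,3,4,5,6,0,1,2,3,4,5,6,0,1,2,3,4,5,6,0,1,2,3,4,5,6,0,1,2,3,4,5,6,0,1,2,3,4,5,6,0,1,2,3,4,5,6,0,1,2,3,4,5,6,0,1,2,3,4,5]))))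
 (Tr.node (Tr.node (Tr.node (Tr.leaf [0,1,4,6,3,7,2,5])
 (Tr.leaf [7,5,7,5]))
 (Tr.node (Tr.leaf [5,1,5,1])
 (Tr.leaf [1,0,6,5,4,3,2,1,0,6,5,4,3,2,1,0,6,5,4,3,2,1,0,6,5,4,3,2,1,0,6,5,4,3,2,1,0,6,5,4,3,2,1,0,6,5,4,3,2,1,0,6,5,4,3,2,1,0,6,5,4,3,2])))
 (Tr.node (Tr.node (Tr.leaf [3,0,3,0])
 (Tr.leaf [0,1,2,7,6,2,4,3,2,0,1,2,7,6,2,4,3,2,0,1,2,7,6,2,4,3,2,0,1,2,7,6,2,4,3,2,0,1,2,7,6,2,4,3,2,0,1,2,7,6,2,4,3,2,0,1,2,7,6,2,4,3,2,0,1,2,7,6,2,4,3,2,0,1,2,7,6,2,4,3,2,0,1,2,7,6,2,4,3,2]))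
 (Tr.node (Tr.leaf [4,3,4,3,4,3])
 (Tr.leaf [6,0,1,2,3,4,5,6,0,1,2,3,4,5,6,0,1,2,3,4,5,6,0,1,2,3,4,5,6,0,1,2,3,4,5,6,0,1,2,3,4,5,6,0,1,2,3,4,5,6,0,1,2,3,4,5,6,0,1,2,3,4,5]))))))
 (Tr.node (Tr.node (Tr.node (Tr.node (Tr.node (Tr.leaf [2,2])
 (Tr.leaf [7,3,7,3]))
 (Tr.node (Tr.leaf [6,0,6,0])
 (Tr.leaf [6,5,4,3,2,1,0,6,5,4,3,2,1,0,6,5,4,3,2,1,0,6,5,4,3,2,1,0,6,5,4,3,2,1,0,6,5,4,3,2,1,0,6,5,4,3,2,1,0,6,5,4,3,2,1,0,6,5,4,3,2,1,0])))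
 (Tr.node (Tr.node (Tr.leaf [6,3,7,2,5,0,1,4])
 (Tr.leaf [6,2,4,3,2,0,1,2,7,6,2,4,3,2,0,1,2,7,6,2,4,3,2,0,1,2,7,6,2,4,3,2,0,1,2,7,6,2,4,3,2,0,1,2,7,6,2,4,3,2,0,1,2,7,6,2,4,3,2,0,1,2,7,6,2,4,3,2,0,1,2,7,6,2,4,3,2,0,1,2,7,6,2,4,3,2,0,1,2,7]))
 (Tr.node (Tr.leaf [3,2,3,2,3,2])
 (Tr.leaf [6,0,1,2,3,4,5,6,0,1,2,3,4,5,6,0,1,2,3,4,5,6,0,1,2,3,4,5,6,0,1,2,3,4,5,6,0,1,2,3,4,5,6,0,1,2,3,4,5,6,0,1,2,3,4,5,6,0,1,2,3,4,5]))))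
 (Tr.node (Tr.node (Tr.node (Tr.leaf [5,0,1,4,6,3,7,2])
 (Tr.leaf [6,5,6,5]))
 (Tr.node (Tr.leaf [4,1,4,1])
 (Tr.leaf [2,1,0,6,5,4,3,2,1,0,6,5,4,3,2,1,0,6,5,4,3,2,1,0,6,5,4,3,2,1,0,6,5,4,3,2,1,0,6,5,4,3,2,1,0,6,5,4,3,2,1,0,6,5,4,3,2,1,0,6,5,4,3])))
 (Tr.node (Tr.node (Tr.leaf [2,0,2,0])
 (Tr.leaf [2,0,1,2,7,6,2,4,3,2,0,1,2,7,6,2,4,3,2,0,1,2,7,6,2,4,3,2,0,1,2,7,6,2,4,3,2,0,1,2,7,6,2,4,3,2,0,1,2,7,6,2,4,3,2,0,1,2,7,6,2,4,3,2,0,1,2,7,6,2,4,3,2,0,1,2,7,6,2,4,3,2,0,1,2,7,6,2,4,3]))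
 (Tr.node (Tr.leaf [7,2,7,2])
 (Tr.leaf [6,0,1,2,3,4,5,6,0,1,2,3,4,5,6,0,1,2,3,4,5,6,0,1,2,3,4,5,6,0,1,2,3,4,5,6,0,1,2,3,4,5,6,0,1,2,3,4,5,6,0,1,2,3,4,5,6,0,1,2,3,4,5])))))
 (Tr.node (Tr.node (Tr.node (Tr.node (Tr.leaf [6,6])
 (Tr.leaf [6,4,6,4]))
 (Tr.node (Tr.leaf [2,1,2,1,2,1])
 (Tr.leaf [4,3,2,1,0,6,5,4,3,2,1,0,6,5,4,3,2,1,0,6,5,4,3,2,1,0,6,5,4,3,2,1,0,6,5,4,3,2,1,0,6,5,4,3,2,1,0,6,5,4,3,2,1,0,6,5,4,3,2,1,0,6,5])))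
 (Tr.node (Tr.node (Tr.leaf [7,2,5,0,1,4,6,3])
 (Tr.leaf [4,3,2,0,1,2,7,6,2,4,3,2,0,1,2,7,6,2,4,3,2,0,1,2,7,6,2,4,3,2,0,1,2,7,6,2,4,3,2,0,1,2,7,6,2,4,3,2,0,1,2,7,6,2,4,3,2,0,1,2,7,6,2,4,3,2,0,1,2,7,6,2,4,3,2,0,1,2,7,6,2,4,3,2,0,1,2,7,6,2]))
 (Tr.node (Tr.leaf [5,2,5,2])
 (Tr.leaf [6,0,1,2,3,4,5,6,0,1,2,3,4,5,6,0,1,2,3,4,5,6,0,1,2,3,4,5,6,0,1,2,3,4,5,6,0,1,2,3,4,5,6,0,1,2,3,4,5,6,0,1,2,3,4,5,6,0,1,2,3,4,5]))))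
 (Tr.node (Tr.node (Tr.node (Tr.leaf [1,4,6,3,7,2,5,0])
 (Tr.leaf [7,6,7,6,7,6]))
 (Tr.node (Tr.leaf [6,1,6,1])
 (Tr.leaf [0,6,5,4,3,2,1,0,6,5,4,3,2,1,0,6,5,4,3,2,1,0,6,5,4,3,2,1,0,6,5,4,3,2,1,0,6,5,4,3,2,1,0,6,5,4,3,2,1,0,6,5,4,3,2,1,0,6,5,4,3,2,1])))
 (Tr.node (Tr.node (Tr.leaf [4,0,4,0])
 (Tr.leaf [1,2,7,6,2,4,3,2,0,1,2,7,6,2,4,3,2,0,1,2,7,6,2,4,3,2,0,1,2,7,6,2,4,3,2,0,1,2,7,6,2,4,3,2,0,1,2,7,6,2,4,3,2,0,1,2,7,6,2,4,3,2,0,1,2,7,6,2,4,3,2,0,1,2,7,6,2,4,3,2,0,1,2,7,6,2,4,3,2,0]))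
 (Tr.node (Tr.leaf [5,3,5,3])
 (Tr.leaf [6,0,1,2,3,4,5,6,0,1,2,3,4,5,6,0,1,2,3,4,5,6,0,1,2,3,4,5,6,0,1,2,3,4,5,6,0,1,2,3,4,5,6,0,1,2,3,4,5,6,0,1,2,3,4,5,6,0,1,2,3,4,5]))))))))

/-- The subgroup rotations. -/
noncomputable def srotT : Tr (List Nat × Nat × List Nat) := (Tr.leaf ([],0,[]))

/-- The certificate. -/
noncomputable def cert : Cert :=
  mkCert 8 113 484 6 113 113 4 15 237 24 192 226 16777215 17179869183 9 7 511 127 16 14 15 ctree.get rotT.get srotT.get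

/-- The witnesses of the rotations. -/
noncomputable def witT : Tr (Nat × Nat × Bool) := (Tr.node (Tr.node (Tr.node (Tr.node (Tr.node (Tr.node (Tr.node (Tr.leaf (0,0,false))
 (Tr.leaf (24,1,false)))
 (Tr.node (Tr.leaf (5,1,false))
 (Tr.leaf (37,7,true))))
 (Tr.node (Tr.node (Tr.leaf (0,3,true))
 (Tr.leaf (35,1,false)))
 (Tr.node (Tr.leaf (14,1,false))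
 (Tr.leaf (38,6,true)))))
 (Tr.node (Tr.node (Tr.node (Tr.leaf (36,0,false))
 (Tr.leaf (29,1,false)))
 (Tr.node (Tr.leaf (10,1,false))
 (Tr.leaf (38,2,true))))
 (Tr.node (Tr.node (Tr.leaf (0,7,true))
 (Tr.leaf (37,3,true)))
 (Tr.node (Tr.leaf (19,1,false))
 (Tr.leaf (38,6,true))))))
 (Tr.node (Tr.node (Tr.node (Tr.node (Tr.leaf (22,0,false))
 (Tr.leaf (26,1,false)))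
 (Tr.node (Tr.leaf (7,1,false))
 (Tr.leaf (38,0,true))))
 (Tr.node (Tr.node (Tr.leaf (0,5,true))
 (Tr.leaf (37,1,true)))
 (Tr.node (Tr.leaf (17,1,false))
 (Tr.leaf (38,6,true)))))
 (Tr.node (Tr.node (Tr.node (Tr.leaf (0,1,true))
 (Tr.leaf (32,1,false)))
 (Tr.node (Tr.leaf (12,1,false))
 (Tr.leaf (38,4,true))))
 (Tr.node (Tr.node (Tr.leaf (3,1,false))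
 (Tr.leaf (37,5,true)))
 (Tr.node (Tr.leaf (21,1,false))
 (Tr.leaf (38,6,true)))))))
 (Tr.node (Tr.node (Tr.node (Tr.node (Tr.node (Tr.leaf (9,0,false))
 (Tr.leaf (25,1,false)))
 (Tr.node (Tr.leaf (6,1,false))
 (Tr.leaf (37,8,true))))
 (Tr.node (Tr.node (Tr.leaf (0,4,true))
 (Tr.leaf (37,0,true)))
 (Tr.node (Tr.leaf (15,1,false))
 (Tr.leaf (38,6,true)))))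
 (Tr.node (Tr.node (Tr.node (Tr.leaf (0,0,true))
 (Tr.leaf (30,1,false)))
 (Tr.node (Tr.leaf (11,1,false))
 (Tr.leaf (38,3,true))))
 (Tr.node (Tr.node (Tr.leaf (2,1,false))
 (Tr.leaf (37,4,true)))
 (Tr.node (Tr.leaf (20,1,false))
 (Tr.leaf (38,6,true))))))
 (Tr.node (Tr.node (Tr.node (Tr.node (Tr.leaf (31,0,false))
 (Tr.leaf (28,1,false)))
 (Tr.node (Tr.leaf (8,1,false))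
 (Tr.leaf (38,1,true))))
 (Tr.node (Tr.node (Tr.leaf (0,6,true))
 (Tr.leaf (37,2,true)))
 (Tr.node (Tr.leaf (18,1,false))
 (Tr.leaf (38,6,true)))))
 (Tr.node (Tr.node (Tr.node (Tr.leaf (0,2,true))
 (Tr.leaf (33,1,false)))
 (Tr.node (Tr.leaf (13,1,false))
 (Tr.leaf (38,5,true))))
 (Tr.node (Tr.node (Tr.leaf (4,1,false))
 (Tr.leaf (37,6,true)))
 (Tr.node (Tr.leaf (23,1,false))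
 (Tr.leaf (38,6,true))))))))
 (Tr.node (Tr.node (Tr.node (Tr.node (Tr.node (Tr.node (Tr.leaf (1,0,false))
 (Tr.leaf (25,0,false)))
 (Tr.node (Tr.leaf (6,0,false))
 (Tr.leaf (37,8,false))))
 (Tr.node (Tr.node (Tr.leaf (0,4,false))
 (Tr.leaf (37,0,false)))
 (Tr.node (Tr.leaf (15,0,false))
 (Tr.leaf (38,6,true)))))
 (Tr.node (Tr.node (Tr.node (Tr.leaf (0,0,false))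
 (Tr.leaf (30,0,false)))
 (Tr.node (Tr.leaf (11,0,false))
 (Tr.leaf (38,3,false))))
 (Tr.node (Tr.node (Tr.leaf (2,0,false))
 (Tr.leaf (37,4,false)))
 (Tr.node (Tr.leaf (20,0,false))
 (Tr.leaf (38,6,true))))))
 (Tr.node (Tr.node (Tr.node (Tr.node (Tr.leaf (27,0,false))
 (Tr.leaf (28,0,false)))
 (Tr.node (Tr.leaf (8,0,false))
 (Tr.leaf (38,1,false))))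
 (Tr.node (Tr.node (Tr.leaf (0,6,false))
 (Tr.leaf (37,2,false)))
 (Tr.node (Tr.leaf (18,0,false))
 (Tr.leaf (38,6,true)))))
 (Tr.node (Tr.node (Tr.node (Tr.leaf (0,2,false))
 (Tr.leaf (33,0,false)))
 (Tr.node (Tr.leaf (13,0,false))
 (Tr.leaf (38,5,false))))
 (Tr.node (Tr.node (Tr.leaf (4,0,false))
 (Tr.leaf (37,6,false)))
 (Tr.node (Tr.leaf (23,0,false))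
 (Tr.leaf (38,6,true)))))))
 (Tr.node (Tr.node (Tr.node (Tr.node (Tr.node (Tr.leaf (16,0,false))
 (Tr.leaf (26,0,false)))
 (Tr.node (Tr.leaf (7,0,false))
 (Tr.leaf (38,0,false))))
 (Tr.node (Tr.node (Tr.leaf (0,5,false))
 (Tr.leaf (37,1,false)))
 (Tr.node (Tr.leaf (17,0,false))
 (Tr.leaf (38,6,true)))))
 (Tr.node (Tr.node (Tr.node (Tr.leaf (0,1,false))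
 (Tr.leaf (32,0,false)))
 (Tr.node (Tr.leaf (12,0,false))
 (Tr.leaf (38,4,false))))
 (Tr.node (Tr.node (Tr.leaf (3,0,false))
 (Tr.leaf (37,5,false)))
 (Tr.node (Tr.leaf (21,0,false))
 (Tr.leaf (38,6,true))))))
 (Tr.node (Tr.node (Tr.node (Tr.node (Tr.leaf (34,0,false))
 (Tr.leaf (29,0,false)))
 (Tr.node (Tr.leaf (10,0,false))
 (Tr.leaf (38,2,false))))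
 (Tr.node (Tr.node (Tr.leaf (0,7,false))
 (Tr.leaf (37,3,false)))
 (Tr.node (Tr.leaf (19,0,false))
 (Tr.leaf (38,6,true)))))
 (Tr.node (Tr.node (Tr.node (Tr.leaf (0,3,false))
 (Tr.leaf (35,0,false)))
 (Tr.node (Tr.leaf (14,0,false))
 (Tr.leaf (38,6,false))))
 (Tr.node (Tr.node (Tr.leaf (5,0,false))
 (Tr.leaf (37,7,false)))
 (Tr.node (Tr.leaf (24,0,false))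
 (Tr.leaf (38,6,true)))))))))

/-- The element. -/
def xw : List Nat := [2,5,0,1,4,6,3,7]

/-- Its power. -/
def xwp : List Nat := [2,5,0,1,4,6,3,7,2,5,0,1,4,6,3,7,2,5,0,1,4,6,3,7,2,5,0,1,4,6,3,7,2,5,0,1,4,6,3,7,2,5,0,1,4,6,3,7,2,5,0,1,4,6,3,7,2,5,0,1,4,6,3,7,2,5,0,1,4,6,3,7,2,5,0,1,4,6,3,7,2,5,0,1,4,6,3,7,2,5,0,1,4,6,3,7,2,5,0,1,4,6,3,7]

theorem hxwp : (List.replicate 13 xw).flatten = xwp := by decide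

end Cfsg.Agent.Lib.TC.D.Fi22H.X_Tab
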